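/-
Upper bound for the Schur multiplier of the Hall-Janko group on a hundred points.

Main result: `exists_surj_two`.
-/
import Cfsg.Agent.Lib.MultiplierJTwo.DataUpper
import Cfsg.Agent.Lib.PcCover.PermLetter
import Cfsg.Agent.Lib.JTwoPerm.Basic
import Cfsg.Agent.Lib.Schur.Basic

set_option autoImplicit false
set_option linter.style.haveILetI false
set_option maxRecDepth 100000
set_option Elab.async false
open Cfsg

universe u

namespace Cfsg.Agent.MultiplierJTwo

open Cfsg.Agent.PcCover Cfsg.Agent.StabCert
open Cfsg.Agent.JTwoPerm (jTwo)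

/-- The six generators in the group. -/
noncomputable def gens (k : ℕ) : jTwo :=
  if h : k < 6 then ⟨JTwoPerm.gen k, gen_mem_sub JTwoPerm.gen (List.mem_range.2 h)⟩ else 1

theorem gens_sound : TablesSound jTwo.subtype gens (fun i => Fin.ofNat 100 i) 7 100 6 JTwoPerm.tab := by
  intro k hk i hi
  have h := JTwoPerm.sound k hk i hi
  simpa only [gens, dif_pos hk, Subgroup.coe_subtype, MonoidHom.id_apply, JTwoPerm.pt] using h

/-- Letters of a certificate. -/
noncomputable def letterJ (words : List (List ℕ)) : ℕ → jTwo := PermLetter.el gens words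

theorem eq_iff {words : List (List ℕ)} {tabs : List ℕ}
    (h : PermLetter.letterOK 7 100 6 JTwoPerm.tab words tabs = true) (v w : List ℕ) :
    PermLetter.eqT 7 100 tabs v w = true ↔ wp (letterJ words) v = wp (letterJ words) w :=
  PermLetter.eqT_iff jTwo.subtype Subtype.val_injective (PermLetter.el_sound jTwo.subtype gens_sound h) v w

theorem two_letters : PermLetter.letterOK 7 100 6 JTwoPerm.tab twoWords twoTabs = true := by decide +kernel
theorem three_letters : PermLetter.letterOK 7 100 6 JTwoPerm.tab threeWords threeTabs = true := by decide +kernel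
theorem five_letters : PermLetter.letterOK 7 100 6 JTwoPerm.tab fiveWords fiveTabs = true := by decide +kernel
theorem two_cert_rels : ((two.rules.all fun r => PermLetter.eqT 7 100 twoTabs r.1 r.2) &&
    two.rels.all (two.relOk (PermLetter.eqT 7 100 twoTabs)) &&
    zeroV (subV (smulV (two.m : ℤ) two.cvec) (comb two.mcomb (two.rels.map two.relVec))) &&
    (two.basis.all fun b => zeroV (subV b.2.1 (comb b.2.2 (two.cvec :: two.rels.map two.relVec)))) &&
    two.T.contains ([], [])) = true := by decide +kernel

theorem two_cert_mulA : ((two.T.take 8).all fun t => two.T.all fun t' =>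
    two.inT (t.1 ++ t'.1) [] (addV t.2 t'.2)) = true:= by decide +kernel

theorem two_cert_mulB : ((two.T.drop 8).all fun t => two.T.all fun t' =>
    two.inT (t.1 ++ t'.1) [] (addV t.2 t'.2)) = true:= by decide +kernel

theorem two_cert_mul : (two.T.all fun t => two.T.all fun t' =>
    two.inT (t.1 ++ t'.1) [] (addV t.2 t'.2)) = true := by
  have h : two.T = two.T.take 8 ++ two.T.drop 8 := (List.take_append_drop 8 _).symm
  rw [List.all_eq_true]
  intro x hx
  rw [h, List.mem_append] at hx
  exact hx.elim (List.all_eq_true.1 two_cert_mulA x) (List.all_eq_true.1 two_cert_mulB x)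

theorem two_cert_conj : ((List.range two.n).all fun i => two.T.all fun t =>
    two.T.any fun t' =>
      (collect two.rules (i :: t.1)).1 == (collect two.rules (t'.1 ++ [i])).1 &&
      two.inC (subV (addV t.2 (collect two.rules (i :: t.1)).2)
        (addV t'.2 (collect two.rules (t'.1 ++ [i])).2))) = true := by decide +kernel

theorem two_cert_comm : (((List.range two.n).all fun x => (List.range two.n).all fun y =>
      two.inT [x, y] [y, x] []) &&
    (two.T.all fun t => !PermLetter.eqT 7 100 twoTabs t.1 [] || (t.1 == [] && zeroV t.2)) &&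
    two.elems.contains [] &&
    (two.elems.all fun l => l.all (fun i => decide (i < two.n)))) = true := by decide +kernel

theorem two_cert_closedA : ((two.elems.take 64).all fun l => (List.range two.n).all fun i =>
    two.elems.contains (collect two.rules (l ++ [i])).1) = true:= by decide +kernel

theorem two_cert_closedB : ((two.elems.drop 64).all fun l => (List.range two.n).all fun i =>
    two.elems.contains (collect two.rules (l ++ [i])).1) = true:= by decide +kernel

theorem two_cert_closed : (two.elems.all fun l => (List.range two.n).all fun i =>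
    two.elems.contains (collect two.rules (l ++ [i])).1) = true := by
  have h : two.elems = two.elems.take 64 ++ two.elems.drop 64 := (List.take_append_drop 64 _).symm
  rw [List.all_eq_true]
  intro x hx
  rw [h, List.mem_append] at hx
  exact hx.elim (List.all_eq_true.1 two_cert_closedA x) (List.all_eq_true.1 two_cert_closedB x)

theorem two_cert_nodup : ((List.range two.elems.length).all fun i => (List.range i).all fun j =>
    !PermLetter.eqT 7 100 twoTabs (two.elems.getD i []) (two.elems.getD j [])) = true := by decide +kernel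

theorem two_cert_order : (two.order % two.elems.length == 0 &&
    !(two.order / two.elems.length % two.p == 0)) = true := by decide +kernel

theorem two_cert : two.check (PermLetter.eqT 7 100 twoTabs) = true := by
  have h1 := two_cert_rels
  have h4 := two_cert_comm
  simp only [Bool.and_eq_true] at h1 h4
  obtain ⟨⟨⟨⟨a1, a2⟩, a3⟩, a4⟩, a5⟩ := h1
  obtain ⟨⟨⟨b1, b2⟩, b3⟩, b4⟩ := h4
  rw [Cert.check]
  simp only [Bool.and_eq_true]
  exact ⟨⟨⟨⟨⟨⟨⟨⟨⟨⟨⟨⟨⟨a1, a2⟩, a3⟩, a4⟩, a5⟩, two_cert_mul⟩, two_cert_conj⟩, b1⟩, b2⟩, b3⟩, b4⟩,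
    two_cert_closed⟩, two_cert_nodup⟩, Bool.and_eq_true_iff.1 two_cert_order⟩
theorem three_cert : three.check (PermLetter.eqT 7 100 threeTabs) = true := by decide +kernel
theorem five_cert : five.check (PermLetter.eqT 7 100 fiveTabs) = true := by decide +kernel

/-- The kernel of a stem extension has order at most two. -/
theorem exists_surj_two {Γ : Type u} [Group Γ] [Finite Γ] (σ : Γ →* jTwo)
    (hσ : Cfsg.IsStemExtension σ) :
    ∃ π : Multiplicative (ZMod 2) →* σ.ker, Function.Surjective π := by
  classical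
  obtain ⟨c, h2⟩ := Cert.bound two (letterJ twoWords) _ (eq_iff two_letters)
    JTwoPerm.natCard_jTwo Nat.prime_two two_cert hσ
  obtain ⟨c₃, h3⟩ := Cert.bound three (letterJ threeWords) _ (eq_iff three_letters)
    JTwoPerm.natCard_jTwo Nat.prime_three three_cert hσ
  obtain ⟨c₅, h5⟩ := Cert.bound five (letterJ fiveWords) _ (eq_iff five_letters)
    JTwoPerm.natCard_jTwo Nat.prime_five five_cert hσ
  have hodd : ∀ (p : ℕ), p.Prime → p ≠ 2 → ∀ (k : ℕ) (z : Γ), z ∈ σ.ker → z ^ p ^ k = 1 → z = 1 := by
    intro p hp hp2 k z hz hord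
    by_cases hp3 : p = 3
    · subst hp3; exact (pow_one z).symm.trans (h3 k z hz hord).2
    by_cases hp5 : p = 5
    · subst hp5; exact (pow_one z).symm.trans (h5 k z hz hord).2
    haveI := Fact.mk hp
    have hns : ¬ p ^ 2 ∣ 604800 := by
      intro hd
      have hpd : p ∣ 2 ^ 7 * (3 ^ 3 * (5 ^ 2 * 7)) :=
        (dvd_pow_self p two_ne_zero).trans (by norm_num; exact hd)
      rcases hp.dvd_mul.1 hpd with h | h
      · exact hp2 ((Nat.prime_dvd_prime_iff_eq hp Nat.prime_two).1 (hp.dvd_of_dvd_pow h))
      rcases hp.dvd_mul.1 h with h | h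
      · exact hp3 ((Nat.prime_dvd_prime_iff_eq hp Nat.prime_three).1 (hp.dvd_of_dvd_pow h))
      rcases hp.dvd_mul.1 h with h | h
      · exact hp5 ((Nat.prime_dvd_prime_iff_eq hp Nat.prime_five).1 (hp.dvd_of_dvd_pow h))
      · rw [(Nat.prime_dvd_prime_iff_eq hp (by norm_num)).1 h] at hd; norm_num at hd
    by_cases hd : p ∣ Nat.card jTwo
    · obtain ⟨r, hr⟩ := exists_prime_orderOf_dvd_card' (G := jTwo) p hd
      refine Schur.eq_one_of_cyclic hσ hp r (fun hdi => hns ?_) hz hord
      rw [← JTwoPerm.natCard_jTwo, pow_two, ← (Subgroup.zpowers r).card_mul_index, Nat.card_zpowers, hr]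
      exact Nat.mul_dvd_mul_left p hdi
    · refine Schur.eq_one_of_cyclic hσ hp 1 (fun hdi => hd ?_) hz hord
      rwa [Subgroup.zpowers_one_eq_bot, Subgroup.index_bot] at hdi
  have hle : σ.ker ≤ Subgroup.zpowers c := Schur.le_of_primary fun p hp k w hw hwk => by
    by_cases hp2 : p = 2
    · subst hp2; exact (h2 k w hw hwk).1
    · rw [hodd p hp hp2 k w hw hwk]; exact one_mem _
  have hsq : ∀ z : σ.ker, z ^ 2 = 1 := by
    letI : CommGroup σ.ker :=
      { (inferInstance : Group σ.ker) with
        mul_comm := fun x y => Subtype.ext ((Subgroup.mem_center_iff.1 (hσ.2.1 y.2)) x.1) }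
    let K : Subgroup Γ := (powMonoidHom 2 : σ.ker →* σ.ker).ker.map σ.ker.subtype
    have hK : σ.ker ≤ K := Schur.le_of_primary fun p hp k w hw hwk => by
      refine ⟨⟨w, hw⟩, Subtype.ext ?_, rfl⟩
      show w ^ 2 = 1
      by_cases hp2 : p = 2
      · subst hp2; exact (h2 k w hw hwk).2
      · rw [hodd p hp hp2 k w hw hwk, one_pow]
    intro z
    obtain ⟨w, hw, hwz⟩ := hK z.2
    rw [← Subtype.ext hwz]
    exact hw
  haveI : IsCyclic σ.ker := Subgroup.isCyclic_of_le hle
  obtain ⟨g, hg⟩ := IsCyclic.exists_generator (α := σ.ker)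
  let f : ℤ →+ Additive σ.ker := zmultiplesHom _ (Additive.ofMul g)
  have hf : f ((2 : ℕ) : ℤ) = 0 := by
    show Additive.ofMul (g ^ ((2 : ℕ) : ℤ)) = 0
    rw [zpow_natCast, hsq]
    rfl
  refine ⟨AddMonoidHom.toMultiplicativeLeft (ZMod.lift 2 ⟨f, hf⟩), fun x => ?_⟩
  obtain ⟨i, hi⟩ := Subgroup.mem_zpowers_iff.1 (hg x)
  refine ⟨Multiplicative.ofAdd (i : ZMod 2), ?_⟩
  show Additive.toMul (ZMod.lift 2 ⟨f, hf⟩ (i : ZMod 2)) = x
  rw [ZMod.lift_coe]
  exact hi

end Cfsg.Agent.MultiplierJTwo
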