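/-
The icosian reflection group 2.J2 is perfect.

Main result: `commutator_twoJ2`.
-/
import Cfsg.Agent.Lib.Icosian.Unitary

set_option autoImplicit false
set_option maxRecDepth 100000
open Cfsg

namespace Cfsg.Agent.MultiplierJTwo

open Cfsg.Spor Quaternion
open Cfsg.Agent.Ico

/-- A product of the four reflections applied to a vector. -/
noncomputable def appH : List (Fin 4) → H3 → H3
  | [], x => x
  | k :: l, x => qrefl (toV (lineV (gen k))) (appH l x)

/-- The same in coordinates, with a check of divisibility at each step. -/
def runV : List (Fin 4) → V → Option V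
  | [], v => some v
  | k :: l, v =>
    match runV l v with
    | none => none
    | some u => forceV (lineV (gen k)) fun r => forceQ (u.dot2 r) fun d => forceV (r.lmul2 d) fun p =>
        bif decide (V.Dvd' 8 p) then forceV (u.sub (p.div 8)) some else none

theorem runV_spec : ∀ (l : List (Fin 4)) (v w : V), runV l v = some w → appH l (toV v) = toV w := by
  intro l
  induction l with
  | nil => intro v w h; rw [runV, Option.some.injEq] at h; rw [h, appH]
  | cons k l ih =>
    intro v w h
    cases e : runV l v with
    | none => simp [runV, e] at h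
    | some u =>
      simp only [runV, e, forceV_eq, forceQ_eq] at h
      by_cases hd : V.Dvd' 8 ((lineV (gen k)).lmul2 (u.dot2 (lineV (gen k))))
      · rw [decide_eq_true hd, cond_true, Option.some.injEq] at h
        rw [appH, ih v u e, qrefl_toV hd, ← h]
        rfl
      · rw [decide_eq_false hd, cond_false] at h
        exact absurd h (by simp)

theorem appH_add (l : List (Fin 4)) (x y : H3) : appH l (x + y) = appH l x + appH l y := by
  induction l with
  | nil => rfl
  | cons k l ih => simp only [appH, ih, qrefl_add]

theorem appH_lmul (l : List (Fin 4)) (u : ℍ[ℝ]) (x : H3) :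
    appH l (fun t => u * x t) = fun t => u * appH l x t := by
  induction l with
  | nil => rfl
  | cons k l ih => simp only [appH, ih, qrefl_lmul]

theorem prod_apply (l : List (Fin 4)) (x : icoLeech) :
    (((l.map fun k => reflPerm (gen k)).prod x : icoLeech) : H3) = appH l x := by
  induction l with
  | nil => rfl
  | cons k l ih => rw [List.map_cons, List.prod_cons, Equiv.Perm.mul_apply, reflPerm_apply, ih, appH]

/-- A relation of odd length. -/
def oddRel : List (Fin 4) := (List.replicate 7 ([3, 1, 0, 3, 2, 1, 0] : List (Fin 4))).flatten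

theorem oddRel_basis : basisV.all (fun v => decide (runV oddRel v = some v)) = true := by decide +kernel

theorem oddRel_prod : (oddRel.map fun k => reflPerm (gen k)).prod = 1 := by
  refine Equiv.ext fun x => Subtype.ext ?_
  rw [prod_apply, Equiv.Perm.one_apply]
  refine module_induction (P := fun y => appH oddRel y = y) (fun v hv => ?_) (fun a b ha hb => ?_)
    (fun u _ a ha => ?_) x.2
  · exact runV_spec _ _ _ (of_decide_eq_true (List.all_eq_true.1 oddRel_basis v hv))
  · rw [appH_add, ha, hb]
  · rw [appH_lmul, ha]

/-- The reflection group is perfect. -/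
theorem commutator_twoJ2 : commutator twoJ2 = ⊤ := by
  set φ := Abelianization.of (G := twoJ2) with hφ
  let r : Fin 315 → twoJ2 := fun i => ⟨reflPerm i, reflPerm_mem i⟩
  have hall : ∀ i, φ (r i) = φ (r (gen 0)) := fun i => by
    obtain ⟨g, hg, e⟩ := reflPerm_transitive (gen 0) i
    rw [show r i = ⟨g, hg⟩ * r (gen 0) * (⟨g, hg⟩ : twoJ2)⁻¹ from Subtype.ext e.symm, map_mul, map_mul,
      map_inv, mul_comm (φ ⟨g, hg⟩), mul_inv_cancel_right]
  have h2 : φ (r (gen 0)) ^ 2 = 1 := by
    rw [pow_two, ← map_mul, show r (gen 0) * r (gen 0) = 1 from Subtype.ext (reflPerm_mul_self _), map_one]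
  have h49 : φ (r (gen 0)) ^ 49 = 1 := by
    have hp : (oddRel.map fun k => r (gen k)).prod = 1 := by
      refine Subtype.ext ?_
      rw [Subgroup.val_list_prod, List.map_map]
      exact oddRel_prod
    have e := congrArg φ hp
    rw [map_list_prod, map_one, List.map_map] at e
    rw [List.prod_eq_pow_card _ (φ (r (gen 0))) (fun x hx => ?_), List.length_map] at e
    · exact e
    · obtain ⟨k, -, rfl⟩ := List.mem_map.1 hx
      exact hall (gen k)
  have ha : φ (r (gen 0)) = 1 := by
    rw [show 49 = 2 * 24 + 1 from rfl, pow_succ, pow_mul, h2, one_pow, one_mul] at h49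
    exact h49
  rw [← Abelianization.ker_of, eq_top_iff]
  rintro ⟨g, hg⟩ -
  refine twoJ2_induction (P := fun g => ∀ h : g ∈ twoJ2, φ ⟨g, h⟩ = 1) (fun h => ?_) (fun k f hf h => ?_) hg hg
  · exact map_one φ
  · have hf' : f ∈ twoJ2 := by
      have := mul_mem (reflPerm_mem (gen k)) h
      rwa [← mul_assoc, reflPerm_mul_self, one_mul] at this
    rw [show (⟨reflPerm (gen k) * f, h⟩ : twoJ2) = r (gen k) * ⟨f, hf'⟩ from rfl, map_mul, hall, ha,
      hf hf', one_mul]

end Cfsg.Agent.MultiplierJTwo
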